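import Groth.Agent.S5752
import Groth.Agent.L04.CMBasic
import Mathlib.RingTheory.Ideal.AssociatedPrime.Localization
import Mathlib.RingTheory.Localization.AtPrime.Basic
import Mathlib.RingTheory.Ideal.KrullsHeightTheorem

/-! Depth plus coheight for rings of depth at least two at the one-dimensional primes. -/

set_option autoImplicit false
set_option linter.style.haveILetI false

universe u

namespace Groth.L16.PureQuot

open IsLocalRing

variable {A : Type u} [CommRing A] [IsLocalRing A] [IsNoetherianRing A]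

theorem two_lt_depth_add_dim
    (hdepth : ∀ p : Ideal A, ∀ _ : p.IsPrime, ringKrullDim (A ⧸ p) = 1 →
      (2 : ℕ∞) ≤ LocCoh.depth (Localization.AtPrime p) (Localization.AtPrime p))
    (p : Ideal A) (hp : p.IsPrime) (hne : p ≠ maximalIdeal A) :
    (2 : WithBot ℕ∞) < (LocCoh.depth (Localization.AtPrime p) (Localization.AtPrime p) : WithBot ℕ∞) +
      ringKrullDim (A ⧸ p) := by
  haveI : Nontrivial (A ⧸ p) := Ideal.Quotient.nontrivial_iff.2 hp.ne_top
  haveI : IsNoetherianRing (Localization.AtPrime p) := IsLocalization.isNoetherianRing p.primeCompl _ inferInstance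
  have hdim : ∀ r : Ideal A, r.IsPrime → r ≠ maximalIdeal A → (1 : WithBot ℕ∞) ≤ ringKrullDim (A ⧸ r) := by
    intro r hr hr'
    rw [ringKrullDim_quotient]
    let P₀ : PrimeSpectrum.zeroLocus (r : Set A) := ⟨⟨r, hr⟩, fun x hx => hx⟩
    let P₁ : PrimeSpectrum.zeroLocus (r : Set A) := ⟨closedPoint A, fun x hx => le_maximalIdeal hr.ne_top hx⟩
    have hlt : P₀ < P₁ := lt_of_le_of_ne (le_maximalIdeal hr.ne_top)
      fun h => hr' (congrArg (fun z => z.1.asIdeal) h)
    exact Order.LTSeries.length_le_krullDim ((RelSeries.singleton _ P₀).snoc P₁ hlt)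
  have h1 := hdim p hp hne
  by_cases he1 : ringKrullDim (A ⧸ p) = 1
  · rw [he1]
    exact lt_of_lt_of_le (by norm_num) (add_le_add (WithBot.coe_le_coe.2 (hdepth p hp he1)) le_rfl)
  by_cases he3 : (3 : WithBot ℕ∞) ≤ ringKrullDim (A ⧸ p)
  · exact lt_of_lt_of_le (b := (0 : WithBot ℕ∞) + 3) (by norm_num)
      (add_le_add (WithBot.coe_le_coe.2 zero_le) he3)
  obtain ⟨e, he⟩ : ∃ e : ℕ, ringKrullDim (A ⧸ p) = e := by
    obtain ⟨k, hk⟩ := WithBot.ne_bot_iff_exists.1 (show ringKrullDim (A ⧸ p) ≠ ⊥ from
      ne_bot_of_le_ne_bot (by decide) h1)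
    rcases eq_or_ne k ⊤ with rfl | hk'
    · exact absurd (hk ▸ le_top : (3 : WithBot ℕ∞) ≤ _) he3
    · exact ⟨k.toNat, by rw [← hk, ← ENat.coe_toNat hk']; rfl⟩
  rw [he] at h1 he1 he3 ⊢
  have he2 : e = 2 := by
    have : 1 ≤ e := by exact_mod_cast h1
    have : e ≠ 1 := fun h => he1 (by rw [h]; rfl)
    have : ¬ 3 ≤ e := fun h => he3 (by exact_mod_cast h)
    omega
  subst he2
  rcases eq_or_ne (LocCoh.depth (Localization.AtPrime p) (Localization.AtPrime p)) 0 with h0 | h0
  swap
  · exact lt_of_lt_of_le (b := (1 : WithBot ℕ∞) + 2) (by norm_num)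
      (add_le_add (WithBot.coe_le_coe.2 (Order.one_le_iff_pos.2 (pos_iff_ne_zero.2 h0))) le_rfl)
  exfalso
  have hass : p ∈ associatedPrimes A A := by
    have h := (Groth.Agent.S5752.result _ _).1 h0
    rw [← Module.associatedPrimes.preimage_comap_associatedPrimes_eq_associatedPrimes_of_isLocalizedModule
      (R := A) (R' := Localization.AtPrime p) p.primeCompl (Algebra.linearMap A (Localization.AtPrime p))] at h
    rwa [Set.mem_preimage, ← Ideal.under_def, Localization.AtPrime.under_maximalIdeal] at h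
  obtain ⟨q, hq, hpq, hqm, hq1⟩ : ∃ q : Ideal A, q.IsPrime ∧ p ≤ q ∧ q ≠ maximalIdeal A ∧ ringKrullDim (A ⧸ q) = 1 := by
    have h2 : Order.krullDim (PrimeSpectrum.zeroLocus (p : Set A)) = ((2 : ℕ) : WithBot ℕ∞) := by
      rw [← ringKrullDim_quotient, he]
    obtain ⟨l, hl⟩ := Order.le_krullDim_iff.1 h2.ge
    have h01 : l ⟨0, by omega⟩ < l ⟨1, by omega⟩ := l.strictMono (by simp [Fin.lt_def])
    have h12 : l ⟨1, by omega⟩ < l ⟨2, by omega⟩ := l.strictMono (by simp [Fin.lt_def])
    set q := l ⟨1, by omega⟩ with hqdef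
    have hqm : q.1.asIdeal ≠ maximalIdeal A := fun h => by
      have : (l ⟨2, by omega⟩).1.asIdeal ≤ q.1.asIdeal := h ▸ le_maximalIdeal (l ⟨2, by omega⟩).1.2.ne_top
      exact (not_le_of_gt h12) this
    refine ⟨q.1.asIdeal, q.1.2, q.2, hqm, le_antisymm ?_ (hdim _ q.1.2 hqm)⟩
    rw [ringKrullDim_quotient]
    refine iSup_le fun l' => ?_
    by_contra hl'
    have hlen : 2 ≤ l'.length := by
      by_contra h
      exact hl' (by exact_mod_cast (show l'.length ≤ 1 by omega))
    let ι : PrimeSpectrum.zeroLocus (q.1.asIdeal : Set A) → PrimeSpectrum.zeroLocus (p : Set A) :=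
      fun z => ⟨z.1, fun x hx => z.2 (q.2 hx)⟩
    let l1 := l'.map ι fun a b hab => hab
    have hhead : l ⟨0, by omega⟩ < l1.head := lt_of_lt_of_le h01 (show q.1.asIdeal ≤ _ from (l'.head).2)
    have hk := Order.LTSeries.length_le_krullDim (l1.cons (l ⟨0, by omega⟩) hhead)
    rw [h2] at hk
    have : l'.length + 1 ≤ 2 := by
      rw [RelSeries.cons_length] at hk
      exact_mod_cast hk
    omega
  haveI := hq
  haveI : IsNoetherianRing (Localization.AtPrime q) := IsLocalization.isNoetherianRing q.primeCompl _ inferInstance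
  have h2q := hdepth q hq hq1
  let P := p.map (algebraMap A (Localization.AtPrime q))
  have hdisj : Disjoint (q.primeCompl : Set A) p := Set.disjoint_left.2 fun x hx hxp => hx (hpq hxp)
  have hcomap : P.comap (algebraMap A (Localization.AtPrime q)) = p :=
    IsLocalization.under_map_of_isPrime_disjoint q.primeCompl _ hp hdisj
  have hPass : P ∈ associatedPrimes (Localization.AtPrime q) (Localization.AtPrime q) := by
    rw [← Module.associatedPrimes.preimage_comap_associatedPrimes_eq_associatedPrimes_of_isLocalizedModule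
      (R := A) (R' := Localization.AtPrime q) q.primeCompl (Algebra.linearMap A (Localization.AtPrime q)), Set.mem_preimage, hcomap]
    exact hass
  have hle := Groth.L04.depth_le_ringKrullDim_quotient hPass
  have hd1 : ringKrullDim (Localization.AtPrime q ⧸ P) ≤ 1 := by
    rw [ringKrullDim_quotient]
    refine iSup_le fun l' => ?_
    by_contra hl'
    have hlen : 2 ≤ l'.length := by
      by_contra h
      exact hl' (by exact_mod_cast (show l'.length ≤ 1 by omega))
    let ι : PrimeSpectrum.zeroLocus (P : Set (Localization.AtPrime q)) → PrimeSpectrum.zeroLocus (p : Set A) :=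
      fun z => ⟨⟨z.1.asIdeal.comap (algebraMap A _), z.1.2.comap _⟩, fun x hx => Ideal.comap_mono z.2 (hcomap.ge hx)⟩
    let l1 := l'.map ι fun a b hab => by
      refine lt_of_le_of_ne (Ideal.comap_mono (le_of_lt hab)) fun h => ?_
      have h' := congrArg (fun z => (Ideal.map (algebraMap A (Localization.AtPrime q)) z.1.asIdeal)) h
      simp only [ι, IsLocalization.map_comap q.primeCompl] at h'
      exact ne_of_lt hab (Subtype.ext (PrimeSpectrum.ext h'))
    have hlast : l1.last < (⟨closedPoint A, fun x hx => le_maximalIdeal hp.ne_top hx⟩ : PrimeSpectrum.zeroLocus (p : Set A)) := by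
      have hle2 : l1.last.1.asIdeal ≤ q := fun x hx => by
        by_contra hxq
        exact (l'.last).1.2.ne_top (Ideal.eq_top_of_isUnit_mem _ hx
          (IsLocalization.map_units (Localization.AtPrime q) (⟨x, hxq⟩ : q.primeCompl)))
      refine lt_of_le_of_ne (le_maximalIdeal l1.last.1.2.ne_top) fun h => hqm (le_antisymm (le_maximalIdeal hq.ne_top) ?_)
      exact (congrArg (fun z => z.1.asIdeal) h).symm.le.trans hle2
    have hk := Order.LTSeries.length_le_krullDim (l1.snoc _ hlast)
    rw [← ringKrullDim_quotient, he] at hk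
    have : l'.length + 1 ≤ 2 := by
      rw [RelSeries.snoc_length] at hk
      exact_mod_cast hk
    omega
  exact absurd ((WithBot.coe_le_coe.2 h2q).trans (hle.trans hd1)) (by norm_num)

end Groth.L16.PureQuot
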