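import Groth.Prelude.Def_SGA2
import Groth.Agent.L16.PuncExt.Main
import Groth.Agent.L16.PureQuot.Depth
import Groth.Agent.L27.Lefschetz.DualHyp
import Groth.Agent.L29.Dual.CompleteDual

/-! Purity passes from a hypersurface to the ring. -/

set_option autoImplicit false
set_option linter.style.haveILetI false
set_option backward.isDefEq.respectTransparency.types false

universe u

open CategoryTheory CategoryTheory.Limits AlgebraicGeometry TopologicalSpace

namespace Groth.L16.PureQuot

/-- Restriction along the identity. -/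
noncomputable def restrictIdIso (X : Scheme.{u}) : FEt.restrict (𝟙 X) ≅ 𝟭 (FEt.Cat X) :=
  NatIso.ofComponents (fun W => MorphismProperty.Over.isoMk
      (@asIso _ _ _ _ (pullback.fst W.hom (𝟙 X)) (pullback_fst_iso_of_right_iso W.hom (𝟙 X)))
      (pullback.condition.trans (Category.comp_id _)))
    fun _ => MorphismProperty.Over.Hom.ext (pullback.lift_fst _ _ _)

/-- Restriction along a composite. -/
noncomputable def restrictCompIso' {X Y Z : Scheme.{u}} (f : X ⟶ Y) (g : Y ⟶ Z) :
    FEt.restrict (f ≫ g) ≅ FEt.restrict g ⋙ FEt.restrict f :=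
  MorphismProperty.Over.pullbackComp (P := FEt.prop) (Q := ⊤) f g

theorem isEquivalence_of_isIso {X Y : Scheme.{u}} (i : X ⟶ Y) [IsIso i] : (FEt.restrict i).IsEquivalence :=
  (CategoryTheory.Equivalence.mk (FEt.restrict i) (FEt.restrict (inv i))
    ((restrictIdIso Y).symm ≪≫ MorphismProperty.Over.pullbackCongr (IsIso.inv_hom_id i).symm ≪≫
      restrictCompIso' (inv i) i)
    ((restrictCompIso' i (inv i)).symm ≪≫ MorphismProperty.Over.pullbackCongr (IsIso.hom_inv_id i) ≪≫
      restrictIdIso X)).isEquivalence_functor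

theorem isEquivalence_comp {X Y Z : Scheme.{u}} (f : X ⟶ Y) (g : Y ⟶ Z)
    [(FEt.restrict f).IsEquivalence] [(FEt.restrict g).IsEquivalence] : (FEt.restrict (f ≫ g)).IsEquivalence :=
  Functor.isEquivalence_of_iso (restrictCompIso' f g).symm

theorem isEquivalence_congr {X Y : Scheme.{u}} {f g : X ⟶ Y} (h : f = g)
    [(FEt.restrict f).IsEquivalence] : (FEt.restrict g).IsEquivalence := h ▸ ‹_›

/-- Purity of a pair given by a point. -/
theorem isPurePair_punctured {A : Type u} [CommRing A] [IsLocalRing A]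
    (h : (FEt.restrict (FEt.puncturedSpec A).ι).IsEquivalence) :
    SGA2.IsPurePair (Spec (CommRingCat.of A)) (FEt.puncturedSpec A) := by
  intro V
  by_cases hc : IsLocalRing.closedPoint A ∈ V
  · have hV : V = ⊤ := by
      refine top_le_iff.1 fun x _ => ?_
      exact ((PrimeSpectrum.le_iff_specializes x (IsLocalRing.closedPoint A)).1
        (IsLocalRing.le_maximalIdeal x.2.ne_top)).mem_open V.2 hc
    subst hV
    haveI := h
    haveI : IsIso (⊤ : (Spec (CommRingCat.of A)).Opens).ι := (Spec (CommRingCat.of A)).topIso.isIso_hom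
    haveI : IsIso ((Spec (CommRingCat.of A)).homOfLE
        (show (⊤ : (Spec (CommRingCat.of A)).Opens) ⊓ FEt.puncturedSpec A ≤ FEt.puncturedSpec A from inf_le_right)) :=
      ⟨(Spec (CommRingCat.of A)).homOfLE (le_inf le_top le_rfl), by simp, by simp⟩
    haveI := isEquivalence_of_isIso ((Spec (CommRingCat.of A)).homOfLE
      (show (⊤ : (Spec (CommRingCat.of A)).Opens) ⊓ FEt.puncturedSpec A ≤ FEt.puncturedSpec A from inf_le_right))
    haveI := isEquivalence_of_isIso (inv (⊤ : (Spec (CommRingCat.of A)).Opens).ι)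
    haveI := isEquivalence_comp (FEt.puncturedSpec A).ι (inv (⊤ : (Spec (CommRingCat.of A)).Opens).ι)
    haveI := isEquivalence_comp ((Spec (CommRingCat.of A)).homOfLE
      (show (⊤ : (Spec (CommRingCat.of A)).Opens) ⊓ FEt.puncturedSpec A ≤ FEt.puncturedSpec A from inf_le_right))
      ((FEt.puncturedSpec A).ι ≫ inv (⊤ : (Spec (CommRingCat.of A)).Opens).ι)
    exact isEquivalence_congr (f := (Spec (CommRingCat.of A)).homOfLE
      (show (⊤ : (Spec (CommRingCat.of A)).Opens) ⊓ FEt.puncturedSpec A ≤ FEt.puncturedSpec A from inf_le_right) ≫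
      ((FEt.puncturedSpec A).ι ≫ inv (⊤ : (Spec (CommRingCat.of A)).Opens).ι))
      (by rw [← cancel_mono (⊤ : (Spec (CommRingCat.of A)).Opens).ι]; simp)
  · have hle : V ≤ FEt.puncturedSpec A := fun x hx => by
      show x ≠ IsLocalRing.closedPoint A
      rintro rfl
      exact hc hx
    haveI : IsIso ((Spec (CommRingCat.of A)).homOfLE (inf_le_left : V ⊓ FEt.puncturedSpec A ≤ V)) := by
      have : V ⊓ FEt.puncturedSpec A = V := inf_eq_left.2 hle
      exact ⟨(Spec (CommRingCat.of A)).homOfLE this.ge, by simp, by simp⟩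
    exact isEquivalence_of_isIso _

/-- The punctured spectrum of a hypersurface is the trace of the punctured spectrum. -/
theorem isPurePair_of_quotient {A : Type u} [CommRing A] [IsLocalRing A] [IsNoetherianRing A]
    (hd : ∃ ω : Dual.D A, Dual.IsDualizing A ω) (t : A) (ht : t ∈ IsLocalRing.maximalIdeal A)
    [HenselianRing A (Ideal.span {t})]
    (hdepth : ∀ p : Ideal A, ∀ _ : p.IsPrime, ringKrullDim (A ⧸ p) = 1 →
      (2 : ℕ∞) ≤ LocCoh.depth (Localization.AtPrime p) (Localization.AtPrime p))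
    [IsLocalRing (A ⧸ Ideal.span {t})]
    (hB : SGA2.IsPurePair (Spec (CommRingCat.of (A ⧸ Ideal.span {t}))) (FEt.puncturedSpec (A ⧸ Ideal.span {t}))) :
    SGA2.IsPurePair (Spec (CommRingCat.of A)) (FEt.puncturedSpec A) := by
  refine isPurePair_punctured ?_
  let B := A ⧸ Ideal.span {t}
  let U := FEt.puncturedSpec A
  let U₀ := FEt.puncturedSpec B
  let q : Spec (CommRingCat.of B) ⟶ Spec (CommRingCat.of A) :=
    Spec.map (CommRingCat.ofHom (Ideal.Quotient.mk (Ideal.span {t})))
  -- purity of the quotient at the top open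
  haveI hU₀ : (FEt.restrict U₀.ι).IsEquivalence := by
    haveI := hB ⊤
    haveI : IsIso (⊤ : (Spec (CommRingCat.of B)).Opens).ι := (Spec (CommRingCat.of B)).topIso.isIso_hom
    haveI : IsIso ((Spec (CommRingCat.of B)).homOfLE
        (show U₀ ≤ (⊤ : (Spec (CommRingCat.of B)).Opens) ⊓ U₀ from le_inf le_top le_rfl)) :=
      ⟨(Spec (CommRingCat.of B)).homOfLE inf_le_right, by simp, by simp⟩
    haveI := isEquivalence_of_isIso ((Spec (CommRingCat.of B)).homOfLE
      (show U₀ ≤ (⊤ : (Spec (CommRingCat.of B)).Opens) ⊓ U₀ from le_inf le_top le_rfl))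
    haveI := isEquivalence_of_isIso (⊤ : (Spec (CommRingCat.of B)).Opens).ι
    haveI := isEquivalence_comp ((Spec (CommRingCat.of B)).homOfLE (inf_le_left : ⊤ ⊓ U₀ ≤ ⊤))
      (⊤ : (Spec (CommRingCat.of B)).Opens).ι
    haveI := isEquivalence_comp ((Spec (CommRingCat.of B)).homOfLE
      (show U₀ ≤ (⊤ : (Spec (CommRingCat.of B)).Opens) ⊓ U₀ from le_inf le_top le_rfl))
      ((Spec (CommRingCat.of B)).homOfLE (inf_le_left : ⊤ ⊓ U₀ ≤ ⊤) ≫ (⊤ : (Spec (CommRingCat.of B)).Opens).ι)
    exact isEquivalence_congr (f := (Spec (CommRingCat.of B)).homOfLE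
      (show U₀ ≤ (⊤ : (Spec (CommRingCat.of B)).Opens) ⊓ U₀ from le_inf le_top le_rfl) ≫
      ((Spec (CommRingCat.of B)).homOfLE (inf_le_left : ⊤ ⊓ U₀ ≤ ⊤) ≫ (⊤ : (Spec (CommRingCat.of B)).Opens).ι))
      (by simp)
  haveI : IsLocalHom (Ideal.Quotient.mk (Ideal.span {t})) := IsLocalHom.of_surjective _ Ideal.Quotient.mk_surjective
  have hcl : q (IsLocalRing.closedPoint B) = IsLocalRing.closedPoint A :=
    IsLocalRing.comap_closedPoint (Ideal.Quotient.mk (Ideal.span {t}))
  have hpre : q ⁻¹ᵁ U = U₀ := by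
    ext z
    show q z ≠ IsLocalRing.closedPoint A ↔ z ≠ IsLocalRing.closedPoint B
    refine not_congr ⟨fun h => ?_, fun h => h ▸ hcl⟩
    exact PrimeSpectrum.comap_injective_of_surjective _ Ideal.Quotient.mk_surjective (h.trans hcl.symm)
  let θ : pullback U.ι q ⟶ U₀.toScheme := IsOpenImmersion.lift U₀.ι (pullback.snd U.ι q) (by
    rintro _ ⟨z, rfl⟩
    rw [Scheme.Opens.range_ι, ← hpre]
    show q (pullback.snd U.ι q z) ∈ U
    rw [← Scheme.Hom.comp_apply, ← pullback.condition, Scheme.Hom.comp_apply]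
    exact (pullback.fst U.ι q z).2)
  have hθ : θ ≫ U₀.ι = pullback.snd U.ι q := IsOpenImmersion.lift_fac _ _ _
  haveI : IsIso θ := by
    haveI : IsOpenImmersion (θ ≫ U₀.ι) := by rw [hθ]; infer_instance
    haveI : IsOpenImmersion θ := IsOpenImmersion.of_comp θ U₀.ι
    haveI : Surjective θ := ⟨fun w => by
      have hw : (U₀.ι w) ∈ Set.range (pullback.snd U.ι q) := by
        rw [IsOpenImmersion.range_pullbackSnd, Scheme.Opens.opensRange_ι]
        show U₀.ι w ∈ q ⁻¹ᵁ U
        rw [hpre]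
        exact w.2
      obtain ⟨z, hz⟩ := hw
      refine ⟨z, U₀.ι.isOpenEmbedding.injective ?_⟩
      rw [← Scheme.Hom.comp_apply, hθ, hz]⟩
    exact (isIso_iff_isOpenImmersion_and_surjective θ).2 ⟨inferInstance, inferInstance⟩
  haveI := isEquivalence_of_isIso θ
  haveI := Groth.L27.HenselPair.isEquivalence_restrict (Ideal.span {t})
  haveI := isEquivalence_comp θ U₀.ι
  haveI h1 : (FEt.restrict (θ ≫ U₀.ι ≫ q)).IsEquivalence := by
    haveI := isEquivalence_comp (θ ≫ U₀.ι) q
    exact isEquivalence_congr (Category.assoc θ U₀.ι q)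
  haveI h2 : (FEt.restrict (pullback.fst U.ι q ≫ U.ι)).IsEquivalence :=
    isEquivalence_congr (f := θ ≫ U₀.ι ≫ q) (by rw [← Category.assoc, hθ, pullback.condition])
  haveI h3 : (FEt.restrict U.ι ⋙ FEt.restrict (pullback.fst U.ι q)).IsEquivalence :=
    Functor.isEquivalence_of_iso (restrictCompIso' (pullback.fst U.ι q) U.ι)
  have hc : ∀ p : Ideal A, ∀ _ : p.IsPrime, t ∉ p →
      (2 : WithBot ℕ∞) < (LocCoh.depth (Localization.AtPrime p) (Localization.AtPrime p) : WithBot ℕ∞) + ringKrullDim (A ⧸ p) :=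
    fun p hp htp => two_lt_depth_add_dim hdepth p hp fun h => htp (h ▸ ht)
  obtain ⟨hfull, hfaith⟩ := Groth.L27.LefLocal.full_faithful A t ht
    (Groth.L27.LefDual.exists_kills t hd hc 1 (by omega)) (Groth.L27.LefDual.exists_kills t hd hc 2 le_rfl)
  haveI := hfull
  haveI := hfaith
  haveI : (FEt.restrict U.ι).Full := Functor.Full.of_comp_faithful (FEt.restrict U.ι) (FEt.restrict (pullback.fst U.ι q))
  haveI : (FEt.restrict U.ι).Faithful := Functor.Faithful.of_comp (FEt.restrict U.ι) (FEt.restrict (pullback.fst U.ι q))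
  haveI : (FEt.restrict U.ι).EssSurj := ⟨fun V =>
    ⟨(FEt.restrict U.ι ⋙ FEt.restrict (pullback.fst U.ι q)).objPreimage ((FEt.restrict (pullback.fst U.ι q)).obj V),
      ⟨(FEt.restrict (pullback.fst U.ι q)).preimageIso
        ((FEt.restrict U.ι ⋙ FEt.restrict (pullback.fst U.ι q)).objObjPreimageIso _)⟩⟩⟩
  exact { }

end Groth.L16.PureQuot
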